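/-
`SL(2, F)` in odd characteristic: generation, the involution, and the endomorphisms commuting with
the conjugation by `diag(1, -1)`.
-/
import Cfsg.Agent.QuadPairs.GenericSL2
import Mathlib.FieldTheory.Finite.Basic
import Mathlib.LinearAlgebra.Matrix.CharP

set_option autoImplicit false

namespace CfsgLib.En

open Matrix
open CfsgLib.QP (up low up_coe low_coe up_mul low_mul up_inv low_inv up_zero low_zero)

variable {F : Type*} [Field F]

abbrev SL2 (F : Type*) [Field F] := Matrix.SpecialLinearGroup (Fin 2) F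

theorem sl2_gen : Subgroup.closure (Set.range (up : F → SL2 F) ∪ Set.range (low : F → SL2 F)) = ⊤ := by
  set K := Subgroup.closure (Set.range (up : F → SL2 F) ∪ Set.range (low : F → SL2 F))
  have hu : ∀ t : F, up t ∈ K := fun t => Subgroup.subset_closure (Or.inl ⟨t, rfl⟩)
  have hl : ∀ t : F, low t ∈ K := fun t => Subgroup.subset_closure (Or.inr ⟨t, rfl⟩)
  have key : ∀ g : SL2 F, g.1 1 0 ≠ 0 → g ∈ K := by
    intro g hc
    have hdet : g.1 0 0 * g.1 1 1 - g.1 0 1 * g.1 1 0 = 1 := by
      rw [← Matrix.det_fin_two]; exact g.2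
    have e : g = up ((g.1 0 0 - 1) / g.1 1 0) * low (g.1 1 0) * up ((g.1 1 1 - 1) / g.1 1 0) := by
      apply Subtype.ext
      ext i j
      fin_cases i <;> fin_cases j <;>
        simp [up_coe, low_coe, Matrix.mul_apply, Fin.sum_univ_two] <;> field_simp <;>
        first
          | ring1
          | linear_combination hdet
          | linear_combination -hdet
    rw [e]
    exact mul_mem (mul_mem (hu _) (hl _)) (hu _)
  rw [eq_top_iff]
  intro g _
  by_cases hc : g.1 1 0 = 0
  · have hdet : g.1 0 0 * g.1 1 1 - g.1 0 1 * g.1 1 0 = 1 := by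
      rw [← Matrix.det_fin_two]; exact g.2
    have hd : g.1 1 1 ≠ 0 := fun e => by rw [hc, e] at hdet; simp at hdet
    have h2 := key (g * low 1) (by simpa [low_coe, Matrix.mul_apply, Fin.sum_univ_two, hc] using hd)
    simpa using mul_mem h2 (inv_mem (hl 1))
  · exact key g hc

theorem sl2_hom_ext {M : Type*} [Group M] {f g : SL2 F →* M} (h1 : ∀ t, f (up t) = g (up t))
    (h2 : ∀ t, f (low t) = g (low t)) : f = g := by
  refine MonoidHom.eq_of_eqOn_dense (s := Set.range (up : F → SL2 F) ∪ Set.range low) sl2_gen ?_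
  rintro x (⟨t, rfl⟩ | ⟨t, rfl⟩)
  exacts [h1 t, h2 t]

/-- A hom into a group with no elements of order `p` kills `SL2`. -/
theorem sl2_hom_trivial {M : Type*} [Group M] {p : ℕ} [CharP F p] (f : SL2 F →* M)
    (hM : ∀ x : SL2 F, f x ^ p = 1 → f x = 1) : f = 1 := by
  refine sl2_hom_ext (fun t => ?_) (fun t => ?_)
  · refine hM _ ?_
    have : ∀ n : ℕ, (up t) ^ n = up ((n : F) * t) := by
      intro n
      induction n with
      | zero => simp [up_zero]
      | succ n ih => rw [pow_succ, ih, up_mul]; push_cast; ring_nf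
    rw [← map_pow, this, CharP.cast_eq_zero, zero_mul, up_zero, map_one]
  · refine hM _ ?_
    have : ∀ n : ℕ, (low t) ^ n = low ((n : F) * t) := by
      intro n
      induction n with
      | zero => simp [low_zero]
      | succ n ih => rw [pow_succ, ih, low_mul]; push_cast; ring_nf
    rw [← map_pow, this, CharP.cast_eq_zero, zero_mul, low_zero, map_one]

/-- `-1`. -/
def m1 (F : Type*) [Field F] : SL2 F := ⟨!![-1, 0; 0, -1], by simp [Matrix.det_fin_two]⟩

theorem involution_eq (h2 : (2 : F) ≠ 0) {x : SL2 F} (hx : x * x = 1) (hne : x ≠ 1) : x = m1 F := by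
  have h : x.1 * x.1 = 1 := by
    rw [← Matrix.SpecialLinearGroup.coe_mul, hx, Matrix.SpecialLinearGroup.coe_one]
  have hdet : x.1 0 0 * x.1 1 1 - x.1 0 1 * x.1 1 0 = 1 := by
    rw [← Matrix.det_fin_two]; exact x.2
  have e00 := congrFun (congrFun h 0) 0
  have e01 := congrFun (congrFun h 0) 1
  have e10 := congrFun (congrFun h 1) 0
  have e11 := congrFun (congrFun h 1) 1
  simp [Matrix.mul_apply, Fin.sum_univ_two] at e00 e01 e10 e11
  have hs : x.1 0 0 + x.1 1 1 ≠ 0 := by
    intro hz
    exact h2 (by linear_combination (-1 : F) * hdet - e00 + x.1 0 0 * hz)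
  have hb : x.1 0 1 = 0 := by
    refine (mul_eq_zero.1 (?_ : x.1 0 1 * (x.1 0 0 + x.1 1 1) = 0)).resolve_right hs
    linear_combination e01
  have hc : x.1 1 0 = 0 := by
    refine (mul_eq_zero.1 (?_ : x.1 1 0 * (x.1 0 0 + x.1 1 1) = 0)).resolve_right hs
    linear_combination e10
  rw [hb, zero_mul, add_zero] at e00
  rw [hb, zero_mul, sub_zero] at hdet
  rcases mul_self_eq_one_iff.1 e00 with ha | ha <;> rw [ha] at hdet
  · refine absurd (Subtype.ext ?_) hne
    ext i j
    fin_cases i <;> fin_cases j <;> simp [ha, hb, hc]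
    linear_combination hdet
  · refine Subtype.ext ?_
    ext i j
    fin_cases i <;> fin_cases j <;> simp [m1, ha, hb, hc]
    linear_combination (-1 : F) * hdet

/-- The matrix conjugate by `diag(c, 1)`. -/
def dgM (c : Fˣ) (g : Matrix (Fin 2) (Fin 2) F) : Matrix (Fin 2) (Fin 2) F :=
  !![g 0 0, (c : F) * g 0 1; ((c⁻¹ : Fˣ) : F) * g 1 0, g 1 1]

theorem dgM_mul (c : Fˣ) (g h : Matrix (Fin 2) (Fin 2) F) :
    dgM c (g * h) = dgM c g * dgM c h := by
  ext i j
  fin_cases i <;> fin_cases j <;>
    simp [dgM, Matrix.mul_apply, Fin.sum_univ_two] <;> field_simp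

theorem dgM_det (c : Fˣ) (g : Matrix (Fin 2) (Fin 2) F) : (dgM c g).det = g.det := by
  simp [dgM, Matrix.det_fin_two]
  field_simp

/-- Conjugation by `diag(c, 1)`. -/
def dg (c : Fˣ) : SL2 F →* SL2 F :=
  MonoidHom.mk' (fun g => ⟨dgM c g.1, (dgM_det c g.1).trans g.2⟩)
    fun g h => Subtype.ext (dgM_mul c g.1 h.1)

theorem dg_coe (c : Fˣ) (g : SL2 F) :
    (dg c g).1 = !![g.1 0 0, (c : F) * g.1 0 1; ((c⁻¹ : Fˣ) : F) * g.1 1 0, g.1 1 1] := rfl

theorem dg_up (c : Fˣ) (t : F) : dg c (up t) = up ((c : F) * t) := by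
  apply Subtype.ext; ext i j; fin_cases i <;> fin_cases j <;> simp [dg_coe, up_coe]

theorem dg_low (c : Fˣ) (t : F) : dg c (low t) = low (((c⁻¹ : Fˣ) : F) * t) := by
  apply Subtype.ext; ext i j; fin_cases i <;> fin_cases j <;> simp [dg_coe, low_coe]

/-- The matrix of transpose-inverse. -/
def tiM (g : Matrix (Fin 2) (Fin 2) F) : Matrix (Fin 2) (Fin 2) F :=
  !![g 1 1, -g 1 0; -g 0 1, g 0 0]

theorem tiM_mul (g h : Matrix (Fin 2) (Fin 2) F) : tiM (g * h) = tiM g * tiM h := by
  ext i j
  fin_cases i <;> fin_cases j <;> simp [tiM, Matrix.mul_apply, Fin.sum_univ_two] <;> ring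

theorem tiM_det (g : Matrix (Fin 2) (Fin 2) F) : (tiM g).det = g.det := by
  simp [tiM, Matrix.det_fin_two]; ring

/-- Transpose-inverse. -/
def ti : SL2 F →* SL2 F :=
  MonoidHom.mk' (fun g => ⟨tiM g.1, (tiM_det g.1).trans g.2⟩)
    fun g h => Subtype.ext (tiM_mul g.1 h.1)

theorem ti_coe (g : SL2 F) : (ti g).1 = !![g.1 1 1, -g.1 1 0; -g.1 0 1, g.1 0 0] := rfl

theorem ti_up (t : F) : ti (up t) = low (-t) := by
  apply Subtype.ext; ext i j; fin_cases i <;> fin_cases j <;> simp [ti_coe, up_coe, low_coe]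

theorem ti_low (t : F) : ti (low t) = up (-t) := by
  apply Subtype.ext; ext i j; fin_cases i <;> fin_cases j <;> simp [ti_coe, up_coe, low_coe]

theorem up_inj {s t : F} (h : up s = up t) : s = t := by
  simpa [up_coe] using congrArg (fun g : SL2 F => g.1 0 1) h

theorem low_inj {s t : F} (h : low s = low t) : s = t := by
  simpa [low_coe] using congrArg (fun g : SL2 F => g.1 1 0) h

theorem up_ne_low {s t : F} (hs : s ≠ 0) : up s ≠ low t := fun h => hs (by
  simpa [low_coe, up_coe] using congrArg (fun g : SL2 F => g.1 0 1) h)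

theorem dg_comm_up (t : F) : dg (-1) (up t) = (up t)⁻¹ := by
  rw [dg_up, up_inv]; simp

theorem dg_comm_low (t : F) : dg (-1) (low t) = (low t)⁻¹ := by
  rw [dg_low, low_inv]; simp

/-- An element inverted by the diagonal automorphism and of order `p` is a transvection. -/
theorem inverted_unipotent {p : ℕ} [Fact p.Prime] [CharP F p] (h2 : (2 : F) ≠ 0) {M : SL2 F}
    (hp : M ^ p = 1) (hinv : dg (-1) M = M⁻¹) : (∃ s, M = up s) ∨ ∃ s, M = low s := by
  have hdet : M.1 0 0 * M.1 1 1 - M.1 0 1 * M.1 1 0 = 1 := by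
    rw [← Matrix.det_fin_two]; exact M.2
  have ead : M.1 0 0 = M.1 1 1 := by
    have := congrArg (fun g : SL2 F => g.1 0 0) hinv
    simpa [dg_coe, Matrix.SpecialLinearGroup.coe_inv, Matrix.adjugate_fin_two] using this
  have hnil : IsNilpotent (M.1 - 1) := by
    refine ⟨p, ?_⟩
    rw [sub_pow_char_of_commute (R := Matrix (Fin 2) (Fin 2) F) (p := p) (Commute.one_right M.1), one_pow,
      ← Matrix.SpecialLinearGroup.coe_pow, hp, Matrix.SpecialLinearGroup.coe_one, sub_self]
  have htr := (Matrix.isNilpotent_trace_of_isNilpotent hnil).eq_zero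
  have ha : M.1 0 0 = 1 := by
    simp [Matrix.trace_fin_two] at htr
    have h2a : (2 : F) * (M.1 0 0 - 1) = 0 := by linear_combination htr + ead
    exact sub_eq_zero.1 ((mul_eq_zero.1 h2a).resolve_left h2)
  have hbc : M.1 0 1 * M.1 1 0 = 0 := by rw [← ead, ha] at hdet; linear_combination -hdet
  rcases mul_eq_zero.1 hbc with hb | hc
  · refine Or.inr ⟨M.1 1 0, Subtype.ext ?_⟩
    ext i j
    fin_cases i <;> fin_cases j <;> simp [low_coe, hb, ha, ← ead]
  · refine Or.inl ⟨M.1 0 1, Subtype.ext ?_⟩
    ext i j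
    fin_cases i <;> fin_cases j <;> simp [up_coe, hc, ha, ← ead]

/-- The endomorphisms commuting with the diagonal automorphism. -/
theorem classify [Finite F] {p : ℕ} [Fact p.Prime] [CharP F p] (h2 : (2 : F) ≠ 0)
    (γ : SL2 F →* SL2 F) (hinj : Function.Injective γ)
    (hcomm : ∀ x, γ (dg (-1) x) = dg (-1) (γ x)) :
    ∃ (c : Fˣ) (f : F →+* F), γ = (dg c).comp (Matrix.SpecialLinearGroup.map f) ∨
      γ = ((dg c).comp (Matrix.SpecialLinearGroup.map f)).comp ti := by
  -- reduce to the case that upper transvections stay upper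
  suffices main : ∀ γ : SL2 F →* SL2 F, Function.Injective γ →
      (∀ x, γ (dg (-1) x) = dg (-1) (γ x)) → (∀ t, ∃ s, γ (up t) = up s) →
      ∃ (c : Fˣ) (f : F →+* F), γ = (dg c).comp (Matrix.SpecialLinearGroup.map f) by
    have hu : ∀ t, (∃ s, γ (up t) = up s) ∨ ∃ s, γ (up t) = low s := fun t => by
      refine inverted_unipotent (p := p) h2 ?_ ?_
      · have : ∀ n : ℕ, (up t) ^ n = up ((n : F) * t) := by
          intro n
          induction n with
          | zero => simp [up_zero]
          | succ n ih => rw [pow_succ, ih, up_mul]; push_cast; ring_nf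
        rw [← map_pow, this, CharP.cast_eq_zero, zero_mul, up_zero, map_one]
      · rw [← hcomm, dg_comm_up, map_inv]
    by_cases h1 : ∀ t, ∃ s, γ (up t) = up s
    · obtain ⟨c, f, e⟩ := main γ hinj hcomm h1
      exact ⟨c, f, Or.inl e⟩
    · simp only [not_forall] at h1
      obtain ⟨t₀, ht₀⟩ := h1
      obtain ⟨s₀, hs₀⟩ := (hu t₀).resolve_left ht₀
      have hs0 : s₀ ≠ 0 := fun e => ht₀ ⟨0, by rw [hs₀, e, low_zero, up_zero]⟩
      have hall : ∀ t, ∃ s, γ (up t) = low s := by
        intro t
        rcases hu t with ⟨s, hs⟩ | h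
        · have h3 := congrArg γ ((up_mul t₀ t).trans (by rw [add_comm, ← up_mul]))
          rw [map_mul, map_mul, hs₀, hs] at h3
          have h4 := congrArg (fun g : SL2 F => g.1 1 1) h3
          simp [up_coe, low_coe, Matrix.mul_apply, Fin.sum_univ_two, hs0] at h4
          exact ⟨0, by rw [hs, h4, up_zero, low_zero]⟩
        · exact h
      have hti : ∀ x : SL2 F, ti (ti x) = x := fun x => by
        apply Subtype.ext; ext i j; fin_cases i <;> fin_cases j <;> simp [ti_coe]
      have htd : ∀ x : SL2 F, ti (dg (-1) x) = dg (-1) (ti x) := fun x => by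
        apply Subtype.ext; ext i j; fin_cases i <;> fin_cases j <;> simp [ti_coe, dg_coe]
      have hlu : ∀ t, ∃ s, γ (ti (up t)) = up s := by
        intro t
        have h5 : (∃ s, γ (low (-t)) = up s) ∨ ∃ s, γ (low (-t)) = low s := by
          refine inverted_unipotent (p := p) h2 ?_ ?_
          · have : ∀ n : ℕ, (low (-t)) ^ n = low ((n : F) * (-t)) := by
              intro n
              induction n with
              | zero => simp [low_zero]
              | succ n ih => rw [pow_succ, ih, low_mul]; push_cast; ring_nf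
            rw [← map_pow, this, CharP.cast_eq_zero, zero_mul, low_zero, map_one]
          · rw [← hcomm, dg_comm_low, map_inv]
        rw [ti_up]
        rcases h5 with h | ⟨s, hs⟩
        · exact h
        · -- lower to lower would commute with the image of the upper group
          refine ⟨0, ?_⟩
          have hc : up t₀ * low (-t) = low (-t) * up t₀ := hinj (by
            rw [map_mul, map_mul, hs₀, hs, low_mul, low_mul, add_comm])
          have h4 := congrArg (fun g : SL2 F => g.1 0 0) hc
          have ht0 : t₀ ≠ 0 := fun e => ht₀ ⟨0, by rw [e, up_zero, map_one]⟩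
          simp [up_coe, low_coe, Matrix.mul_apply, Fin.sum_univ_two, ht0] at h4
          rw [h4, neg_zero, low_zero, map_one, up_zero]
      obtain ⟨c, f, e⟩ := main (γ.comp ti) (hinj.comp (Function.LeftInverse.injective hti))
        (fun x => by rw [MonoidHom.comp_apply, MonoidHom.comp_apply, htd, hcomm]) hlu
      refine ⟨c, f, Or.inr (MonoidHom.ext fun x => ?_)⟩
      have := DFunLike.congr_fun e (ti x)
      rw [MonoidHom.comp_apply, hti] at this
      exact this
  clear hcomm hinj γ
  intro γ hinj hcomm hup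
  choose f hf using hup
  have hlow : ∀ t, ∃ s, γ (low t) = low s := by
    intro t
    have h5 : (∃ s, γ (low t) = up s) ∨ ∃ s, γ (low t) = low s := by
      refine inverted_unipotent (p := p) h2 ?_ ?_
      · have : ∀ n : ℕ, (low t) ^ n = low ((n : F) * t) := by
          intro n
          induction n with
          | zero => simp [low_zero]
          | succ n ih => rw [pow_succ, ih, low_mul]; push_cast; ring_nf
        rw [← map_pow, this, CharP.cast_eq_zero, zero_mul, low_zero, map_one]
      · rw [← hcomm, dg_comm_low, map_inv]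
    rcases h5 with ⟨s, hs⟩ | h
    · have hc : up (1 : F) * low t = low t * up 1 := hinj (by
        rw [map_mul, map_mul, hf, hs, up_mul, up_mul, add_comm])
      have h4 := congrArg (fun g : SL2 F => g.1 0 0) hc
      simp [up_coe, low_coe, Matrix.mul_apply, Fin.sum_univ_two] at h4
      exact ⟨0, by rw [h4, low_zero, map_one]⟩
    · exact h
  choose g hg using hlow
  have fadd : ∀ s t, f (s + t) = f s + f t := fun s t => up_inj (by
    rw [← hf, ← up_mul, map_mul, hf, hf, up_mul])
  have gadd : ∀ s t, g (s + t) = g s + g t := fun s t => low_inj (by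
    rw [← hg, ← low_mul, map_mul, hg, hg, low_mul])
  have f0 : f 0 = 0 := by have := fadd 0 0; rw [add_zero] at this; linear_combination -this
  have fne : ∀ t, t ≠ 0 → f t ≠ 0 := fun t ht e => ht (up_inj (hinj (by rw [hf, hf, e, f0])))
  let nm : F → SL2 F := fun t => up t * low (-t⁻¹) * up t
  have nm_up : ∀ t s, t ≠ 0 → nm t * up s = low (-(s / t ^ 2)) * nm t := by
    intro t s ht
    apply Subtype.ext; ext i j
    fin_cases i <;> fin_cases j <;>
      simp [nm, up_coe, low_coe, Matrix.mul_apply, Fin.sum_univ_two] <;> field_simp <;>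
      first | ring1 | simp | (left; ring1) | (right; ring1)
  have hfg : ∀ t, t ≠ 0 → 1 + f t * g (-t⁻¹) = 0 := by
    intro t ht
    have e := congrArg γ (nm_up t 1 ht)
    simp only [nm, map_mul, hf, hg] at e
    have h4 := congrArg (fun x : SL2 F => x.1 0 1) e
    simp [up_coe, low_coe, Matrix.mul_apply, Fin.sum_univ_two] at h4
    exact h4.resolve_right (fne 1 one_ne_zero)
  have g0 : g 0 = 0 := by have := gadd 0 0; rw [add_zero] at this; linear_combination -this
  have gneg : ∀ t, g (-t) = - g t := fun t => by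
    have := gadd t (-t); rw [add_neg_cancel, g0] at this; linear_combination -this
  have hfg' : ∀ t, t ≠ 0 → f t * g t⁻¹ = 1 := fun t ht => by
    have := hfg t ht; rw [gneg] at this; linear_combination -this
  -- the torus
  have htor : ∀ t s, t ≠ 0 → f (t ^ 2 * s) * f 1 ^ 2 = f t ^ 2 * f s := by
    intro t s ht
    obtain ⟨h, hh⟩ : ∃ h : SL2 F, h = nm t * (nm 1)⁻¹ := ⟨_, rfl⟩
    have he : h.1 = !![t, 0; 0, t⁻¹] := by
      ext i j
      fin_cases i <;> fin_cases j <;>
        simp [hh, nm, up_coe, low_coe, Matrix.SpecialLinearGroup.coe_inv, Matrix.adjugate_fin_two,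
          Matrix.mul_apply, Fin.sum_univ_two] <;> field_simp <;>
        first | ring1 | simp
    have e0 : h * up s = up (t ^ 2 * s) * h := by
      apply Subtype.ext
      rw [Matrix.SpecialLinearGroup.coe_mul, Matrix.SpecialLinearGroup.coe_mul, he]
      ext i j
      fin_cases i <;> fin_cases j <;>
        simp [up_coe, Matrix.mul_apply, Fin.sum_univ_two] <;> field_simp
    have e := congrArg (fun x : SL2 F => x.1 0 1) (congrArg γ e0)
    simp only [hh, nm, map_mul, map_inv, hf, hg] at e
    have a := hfg t ht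
    have b := hfg 1 one_ne_zero
    simp [up_coe, low_coe, Matrix.SpecialLinearGroup.coe_inv, Matrix.adjugate_fin_two,
      Matrix.mul_apply, Fin.sum_univ_two] at e
    rw [inv_one] at b
    have ga : g (-t⁻¹) = - (f t)⁻¹ := by
      refine mul_left_cancel₀ (fne t ht) ?_; rw [mul_neg, mul_inv_cancel₀ (fne t ht)]; linear_combination a
    have gb : g (-1) = - (f 1)⁻¹ := by
      refine mul_left_cancel₀ (fne 1 one_ne_zero) ?_; rw [mul_neg, mul_inv_cancel₀ (fne 1 one_ne_zero)]; linear_combination b
    rw [ga, gb] at e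
    have h1' := fne t ht
    have h2' := fne 1 one_ne_zero
    field_simp at e
    linear_combination -e
  have f1 := fne 1 one_ne_zero
  let c : Fˣ := Units.mk0 (f 1) f1
  let φ : F → F := fun t => f t / f 1
  have φsq : ∀ t, φ (t ^ 2) = φ t ^ 2 := by
    intro t
    by_cases ht : t = 0
    · subst ht; simp [φ, f0]
    · have := htor t 1 ht
      rw [mul_one] at this
      simp only [φ]
      field_simp
      exact mul_left_cancel₀ f1 (by linear_combination this)
  have φadd : ∀ s t, φ (s + t) = φ s + φ t := fun s t => by simp [φ, fadd, add_div]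
  have φmul : ∀ s t, φ (s * t) = φ s * φ t := by
    intro s t
    have h := φsq (s + t)
    rw [show (s + t) ^ 2 = s ^ 2 + t ^ 2 + (s * t + s * t) by ring, φadd, φadd, φadd, φadd, φsq, φsq] at h
    have : (2 : F) * (φ (s * t) - φ s * φ t) = 0 := by linear_combination h
    exact sub_eq_zero.1 ((mul_eq_zero.1 this).resolve_left h2)
  let ρ : F →+* F :=
    { toFun := φ
      map_one' := by simp [φ, f1]
      map_mul' := φmul
      map_zero' := by simp [φ, f0]
      map_add' := φadd }
  have map_up : ∀ (σ : F →+* F) (t : F), Matrix.SpecialLinearGroup.map σ (up t) = up (σ t) :=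
    fun σ t => by apply Subtype.ext; ext i j; fin_cases i <;> fin_cases j <;> simp [up_coe]
  have map_low : ∀ (σ : F →+* F) (t : F), Matrix.SpecialLinearGroup.map σ (low t) = low (σ t) :=
    fun σ t => by apply Subtype.ext; ext i j; fin_cases i <;> fin_cases j <;> simp [low_coe]
  refine ⟨c, ρ, sl2_hom_ext (fun t => ?_) (fun t => ?_)⟩
  · rw [MonoidHom.comp_apply, map_up, dg_up, hf]
    congr 1
    show f t = f 1 * (f t / f 1)
    field_simp
  · rw [MonoidHom.comp_apply, map_low, dg_low, hg]
    congr 1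
    show g t = (f 1)⁻¹ * ρ t
    by_cases ht : t = 0
    · subst ht; simp [g0]
    · have h3 := hfg' t⁻¹ (inv_ne_zero ht)
      rw [inv_inv] at h3
      have hi : ρ t * ρ t⁻¹ = 1 := by rw [← map_mul, mul_inv_cancel₀ ht, map_one]
      have hρ : ρ t⁻¹ = f t⁻¹ / f 1 := rfl
      rw [hρ] at hi
      have hne := fne _ (inv_ne_zero ht)
      generalize f t⁻¹ = u at hi hne h3
      generalize ρ t = w at hi ⊢
      field_simp at hi ⊢
      exact mul_left_cancel₀ hne (by linear_combination (f 1) * h3 - hi)

end CfsgLib.En
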