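/-
Two subgroups `SL(2, F)` with commuting involutions generating a quotient of `SL(3, F)`: the frame.
-/
import Cfsg.Agent.En.SLTwo
import Cfsg.Agent.Involutions2.EigenBasis
import Mathlib.LinearAlgebra.Matrix.GeneralLinearGroup.Defs
import Mathlib.GroupTheory.Subgroup.Center

set_option autoImplicit false

namespace CfsgLib.En

open Matrix
open CfsgLib.QP (up low up_coe low_coe up_mul low_mul up_inv low_inv up_zero low_zero)

variable {F : Type*} [Field F]

abbrev SL3 (F : Type*) [Field F] := Matrix.SpecialLinearGroup (Fin 3) F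

theorem m1_coe : (m1 F).1 = !![-1, 0; 0, -1] := rfl

/-- The upper block. -/
def buM (A : Matrix (Fin 2) (Fin 2) F) : Matrix (Fin 3) (Fin 3) F :=
  !![A 0 0, A 0 1, 0; A 1 0, A 1 1, 0; 0, 0, 1]

/-- The lower block. -/
def blM (A : Matrix (Fin 2) (Fin 2) F) : Matrix (Fin 3) (Fin 3) F :=
  !![1, 0, 0; 0, A 0 0, A 0 1; 0, A 1 0, A 1 1]

theorem buM_mul (A B : Matrix (Fin 2) (Fin 2) F) : buM (A * B) = buM A * buM B := by
  ext i j
  fin_cases i <;> fin_cases j <;>
    simp [buM, Matrix.mul_apply, Fin.sum_univ_two, Fin.sum_univ_three]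

theorem blM_mul (A B : Matrix (Fin 2) (Fin 2) F) : blM (A * B) = blM A * blM B := by
  ext i j
  fin_cases i <;> fin_cases j <;>
    simp [blM, Matrix.mul_apply, Fin.sum_univ_two, Fin.sum_univ_three]

theorem buM_det (A : Matrix (Fin 2) (Fin 2) F) : (buM A).det = A.det := by
  simp [buM, Matrix.det_fin_three, Matrix.det_fin_two]

theorem blM_det (A : Matrix (Fin 2) (Fin 2) F) : (blM A).det = A.det := by
  simp [blM, Matrix.det_fin_three, Matrix.det_fin_two]

/-- `SL(2)` as the upper block of `SL(3)`. -/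
def iU : SL2 F →* SL3 F :=
  MonoidHom.mk' (fun g => ⟨buM g.1, (buM_det g.1).trans g.2⟩)
    fun g h => Subtype.ext (buM_mul g.1 h.1)

/-- `SL(2)` as the lower block of `SL(3)`. -/
def iL : SL2 F →* SL3 F :=
  MonoidHom.mk' (fun g => ⟨blM g.1, (blM_det g.1).trans g.2⟩)
    fun g h => Subtype.ext (blM_mul g.1 h.1)

theorem iU_coe (g : SL2 F) :
    (iU g).1 = !![g.1 0 0, g.1 0 1, 0; g.1 1 0, g.1 1 1, 0; 0, 0, 1] := rfl

theorem iL_coe (g : SL2 F) :
    (iL g).1 = !![1, 0, 0; 0, g.1 0 0, g.1 0 1; 0, g.1 1 0, g.1 1 1] := rfl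

/-- Reversing the order of the coordinates. -/
def rev : SL3 F →* SL3 F :=
  MonoidHom.mk' (fun g => ⟨g.1.submatrix Fin.revPerm Fin.revPerm,
      (Matrix.det_submatrix_equiv_self _ g.1).trans g.2⟩)
    fun g h => Subtype.ext (Matrix.submatrix_mul_equiv g.1 h.1 _ Fin.revPerm _).symm

theorem rev_coe (g : SL3 F) (i j : Fin 3) : (rev g).1 i j = g.1 i.rev j.rev := rfl

theorem rev_rev (g : SL3 F) : rev (rev g) = g := by
  apply Subtype.ext; ext i j; simp [rev_coe]

/-- The exchange of the two coordinates. -/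
def sw : SL2 F →* SL2 F := (dg (-1)).comp ti

theorem rev_iL (g : SL2 F) : rev (iL g) = iU (sw g) := by
  apply Subtype.ext; ext i j
  fin_cases i <;> fin_cases j <;> simp [rev_coe, iL_coe, iU_coe, sw, dg_coe, ti_coe, Fin.rev]

theorem sw_m1 : sw (m1 F) = m1 F := by
  apply Subtype.ext; ext i j
  fin_cases i <;> fin_cases j <;> simp [sw, MonoidHom.comp_apply, dg_coe, ti_coe, m1_coe]

theorem sw_sw (g : SL2 F) : sw (sw g) = g := by
  apply Subtype.ext; ext i j
  fin_cases i <;> fin_cases j <;> simp [sw, dg_coe, ti_coe]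

theorem rev_iU (g : SL2 F) : rev (iU g) = iL (sw g) := by
  rw [← rev_rev (iL (sw g)), rev_iL, sw_sw]

/-- Conjugation by an element of `GL(3)`. -/
def cj (P : GL (Fin 3) F) : SL3 F →* SL3 F :=
  MonoidHom.mk' (fun g => ⟨(P : Matrix (Fin 3) (Fin 3) F) * g.1 * ((P⁻¹ : GL (Fin 3) F) :
      Matrix (Fin 3) (Fin 3) F), by rw [Matrix.det_units_conj, g.2]⟩)
    fun g h => Subtype.ext (by
      show _ = ((P : Matrix (Fin 3) (Fin 3) F) * g.1 * _) * ((P : Matrix (Fin 3) (Fin 3) F) * h.1 * _)
      simp [Matrix.mul_assoc])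

theorem cj_coe (P : GL (Fin 3) F) (g : SL3 F) : (cj P g).1 =
    (P : Matrix (Fin 3) (Fin 3) F) * g.1 * ((P⁻¹ : GL (Fin 3) F) : Matrix (Fin 3) (Fin 3) F) := rfl

theorem cj_cj (P : GL (Fin 3) F) (g : SL3 F) : cj P (cj P⁻¹ g) = g := by
  apply Subtype.ext
  simp [cj_coe, Matrix.mul_assoc]

theorem iL_conj_iU (A : SL2 F) : iL (m1 F) * iU A * iL (m1 F) = iU (dg (-1) A) := by
  apply Subtype.ext
  rw [Matrix.SpecialLinearGroup.coe_mul, Matrix.SpecialLinearGroup.coe_mul]
  ext i j
  fin_cases i <;> fin_cases j <;>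
    simp [iL_coe, iU_coe, m1_coe, dg_coe, Matrix.mul_apply, Fin.sum_univ_three]

theorem iU_conj_iL (A : SL2 F) : iU (m1 F) * iL A * iU (m1 F) = iL (dg (-1) A) := by
  apply Subtype.ext
  rw [Matrix.SpecialLinearGroup.coe_mul, Matrix.SpecialLinearGroup.coe_mul]
  ext i j
  fin_cases i <;> fin_cases j <;>
    simp [iL_coe, iU_coe, m1_coe, dg_coe, Matrix.mul_apply, Fin.sum_univ_three]

theorem m1_mul_self : m1 F * m1 F = 1 := by
  apply Subtype.ext
  rw [Matrix.SpecialLinearGroup.coe_mul]
  ext i j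
  fin_cases i <;> fin_cases j <;> simp [m1_coe, Matrix.mul_apply, Fin.sum_univ_two]

theorem m1_ne_one (h2 : (2 : F) ≠ 0) : m1 F ≠ 1 := fun e => h2 (by
  have := congrArg (fun g : SL2 F => g.1 0 0) e
  simp [m1_coe] at this
  linear_combination -this)

theorem cube_center {c : SL3 F} (hc : c ∈ Subgroup.center (SL3 F)) : c * c * c = 1 := by
  obtain ⟨r, hr, he⟩ := Matrix.SpecialLinearGroup.mem_center_iff.1 hc
  simp only [Fintype.card_fin] at hr
  apply Subtype.ext
  rw [Matrix.SpecialLinearGroup.coe_mul, Matrix.SpecialLinearGroup.coe_mul, ← he,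
    Matrix.SpecialLinearGroup.coe_one, ← map_mul, ← map_mul,
    show r * r * r = 1 by linear_combination hr, map_one]

variable {M : Type*} [Group M]

theorem eq_one_of_sq {c : SL3 F} (hc : c ∈ Subgroup.center (SL3 F)) (h : c * c = 1) : c = 1 := by
  have := cube_center hc
  rwa [h, one_mul] at this

/-- Elements commuting in the quotient with an involution commute. -/
theorem comm_of_map {φ : SL3 F →* M} (hker : φ.ker ≤ Subgroup.center (SL3 F)) {a b : SL3 F}
    (hb : b * b = 1) (h : Commute (φ a) (φ b)) : a * b = b * a := by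
  have hk : a * b * a⁻¹ * b⁻¹ ∈ φ.ker := by
    rw [MonoidHom.mem_ker, map_mul, map_mul, map_mul, map_inv, map_inv, h.eq]; group
  have hc := hker hk
  set k := a * b * a⁻¹ * b⁻¹ with hkdef
  have hab : a * b * a⁻¹ = k * b := by rw [hkdef]; group
  have hsq : k * k = 1 := by
    have e1 : (a * b * a⁻¹) * (a * b * a⁻¹) = 1 := by
      rw [show (a * b * a⁻¹) * (a * b * a⁻¹) = a * (b * b) * a⁻¹ by group, hb]; group
    rw [hab, show k * b * (k * b) = k * (b * k) * b by group,
      Subgroup.mem_center_iff.1 hc b, show k * (k * b) * b = k * k * (b * b) by group, hb,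
      mul_one] at e1
    exact e1
  have := eq_one_of_sq hc hsq
  rw [this, one_mul] at hab
  calc a * b = a * b * a⁻¹ * a := by group
    _ = b * a := by rw [hab]

/-- An involution of the quotient lifts to an involution. -/
theorem exists_lift {φ : SL3 F →* M} (hker : φ.ker ≤ Subgroup.center (SL3 F)) {z : M}
    (hz : z ∈ φ.range) (hz2 : z * z = 1) : ∃ w, φ w = z ∧ w * w = 1 := by
  obtain ⟨w, rfl⟩ := hz
  have hk : w * w ∈ φ.ker := by rw [MonoidHom.mem_ker, map_mul, hz2]
  have hc := cube_center (hker hk)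
  refine ⟨w * w * w, by rw [map_mul, map_mul, hz2, one_mul], ?_⟩
  rw [show w * w * w * (w * w * w) = w * w * (w * w) * (w * w) by group, hc]

/-- A centralised block is the image of the upper block. -/
theorem block {p : ℕ} [Fact p.Prime] [CharP F p] [Finite F] (h2 : (2 : F) ≠ 0)
    {φ : SL3 F →* M} (hker : φ.ker ≤ Subgroup.center (SL3 F)) (e : SL2 F →* M)
    (he : Function.Injective e) (hle : e.range ≤ φ.range) (hd : φ (iU (m1 F)) = e (m1 F)) :
    (φ.comp iU).range = e.range ∧ Function.Injective (φ.comp iU) := by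
  classical
  have hpre : ∀ x, ∃ w, φ w = e x := fun x => hle ⟨x, rfl⟩
  choose w hw using hpre
  -- preimages preserve the two eigenspaces
  have hent : ∀ {x : SL2 F} {u : SL3 F}, φ u = e x → u.1 0 2 = 0 ∧ u.1 1 2 = 0 ∧ u.1 2 0 = 0 ∧
      u.1 2 1 = 0 ∧ u.1 2 2 ≠ 0 := by
    intro x u hu
    have hmc : x * m1 F = m1 F * x := by
      apply Subtype.ext
      rw [Matrix.SpecialLinearGroup.coe_mul, Matrix.SpecialLinearGroup.coe_mul]
      ext i j
      fin_cases i <;> fin_cases j <;> simp [m1_coe, Matrix.mul_apply, Fin.sum_univ_two]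
    have hc := comm_of_map hker (a := u) (b := iU (m1 F))
      (by rw [← map_mul, m1_mul_self, map_one])
      (by rw [hu, hd]; exact (by rw [← map_mul, ← map_mul, hmc] : e x * e (m1 F) = e (m1 F) * e x))
    have hc' := congrArg (fun g : SL3 F => g.1) hc
    simp only [Matrix.SpecialLinearGroup.coe_mul] at hc'
    have ne : ∀ y : F, -y = y → y = 0 := fun y h => (mul_eq_zero.1
      (show (2 : F) * y = 0 by linear_combination -h)).resolve_left h2
    have q02 := congrFun (congrFun hc' 0) 2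
    have q12 := congrFun (congrFun hc' 1) 2
    have q20 := congrFun (congrFun hc' 2) 0
    have q21 := congrFun (congrFun hc' 2) 1
    simp [iU_coe, m1_coe, Matrix.mul_apply, Fin.sum_univ_three] at q02 q12 q20 q21
    have z02 := ne _ q02.symm
    have z12 := ne _ q12.symm
    have z20 := ne _ q20
    have z21 := ne _ q21
    refine ⟨z02, z12, z20, z21, fun h => ?_⟩
    have := u.2
    rw [Matrix.det_fin_three, z02, z12, z20, z21, h] at this
    simp at this
  let d : SL2 F → F := fun x => (w x).1 2 2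
  let A : SL2 F → Matrix (Fin 2) (Fin 2) F := fun x =>
    (d x)⁻¹ • !![(w x).1 0 0, (w x).1 0 1; (w x).1 1 0, (w x).1 1 1]
  have huniq : ∀ x u, φ u = e x →
      (u.1 2 2)⁻¹ • !![u.1 0 0, u.1 0 1; u.1 1 0, u.1 1 1] = A x := by
    intro x u hu
    have hc : u * (w x)⁻¹ ∈ Subgroup.center (SL3 F) :=
      hker (by rw [MonoidHom.mem_ker, map_mul, map_inv, hu, hw, mul_inv_cancel])
    obtain ⟨r, -, hr⟩ := Matrix.SpecialLinearGroup.mem_center_iff.1 hc
    have hu' : u = (u * (w x)⁻¹) * w x := by group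
    have he' : ∀ i j, u.1 i j = r * (w x).1 i j := fun i j => by
      conv_lhs => rw [hu', Matrix.SpecialLinearGroup.coe_mul, ← hr]
      simp [Matrix.scalar_apply, Matrix.diagonal_mul]
    have hr0 : r ≠ 0 := fun h0 => (hent hu).2.2.2.2 (by rw [he', h0, zero_mul])
    have hd0 := (hent (hw x)).2.2.2.2
    ext i j
    fin_cases i <;> fin_cases j <;> simp [A, d, he'] <;> field_simp
  have hmul : ∀ x y, A (x * y) = A x * A y := by
    intro x y
    rw [← huniq (x * y) (w x * w y) (by rw [map_mul, map_mul, hw, hw])]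
    obtain ⟨a02, a12, a20, a21, a22⟩ := hent (hw x)
    obtain ⟨b02, b12, b20, b21, b22⟩ := hent (hw y)
    rw [Matrix.SpecialLinearGroup.coe_mul]
    ext i j
    fin_cases i <;> fin_cases j <;>
      simp [A, d, Matrix.mul_apply, Fin.sum_univ_two, Fin.sum_univ_three, a02, a12, a20, a21,
        b02, b12, b20, b21] <;> field_simp <;> first | ring1 | simp
  have hone : A 1 = 1 := by
    rw [← huniq 1 1 (by rw [map_one, map_one])]
    ext i j
    fin_cases i <;> fin_cases j <;> simp
  let Af : SL2 F →* Matrix (Fin 2) (Fin 2) F := { toFun := A, map_one' := hone, map_mul' := hmul }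
  -- the determinant
  have hdetA : ∀ x, (A x).det = 1 := by
    let f : SL2 F →* Fˣ := (Units.map Matrix.detMonoidHom).comp Af.toHomUnits
    have := sl2_hom_trivial (p := p) f fun x hx => by
      refine Units.ext ?_
      have hx' : ((f x : F) - 1) ^ p = 0 := by
        rw [sub_pow_char, one_pow, ← Units.val_pow_eq_pow_val, hx, Units.val_one, sub_self]
      simpa [sub_eq_zero] using (pow_eq_zero_iff (Fact.out : p.Prime).ne_zero).1 hx'
    intro x
    have := congrArg Units.val (DFunLike.congr_fun this x)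
    simpa [f, show ∀ y, Af y = A y from fun _ => rfl] using this
  let Bs : SL2 F →* SL2 F :=
    MonoidHom.mk' (fun x => ⟨A x, hdetA x⟩) fun x y => Subtype.ext (hmul x y)
  -- scalar part
  have hsplit : ∀ x, ∃ c ∈ Subgroup.center (SL3 F), w x = c * iU (Bs x) := by
    intro x
    obtain ⟨a02, a12, a20, a21, a22⟩ := hent (hw x)
    refine ⟨w x * (iU (Bs x))⁻¹, ?_, by group⟩
    have hdx : d x ^ 3 = 1 := by
      have h1 := (w x).2
      rw [Matrix.det_fin_three, a02, a12, a20, a21] at h1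
      have h3 := hdetA x
      simp [A, d, Matrix.det_fin_two] at h3
      field_simp at h3
      simp [d]
      linear_combination h1 - (w x).1 2 2 * h3
    have e1 : (w x).1 = Matrix.scalar (Fin 3) (d x) * (iU (Bs x)).1 := by
      ext i j
      fin_cases i <;> fin_cases j <;>
        simp [iU_coe, show (Bs x).1 = A x from rfl, A, d, Matrix.scalar_apply, Matrix.diagonal_mul, a02, a12, a20, a21] <;>
        field_simp
    refine Matrix.SpecialLinearGroup.mem_center_iff.2 ⟨d x, by simpa using hdx, ?_⟩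
    rw [Matrix.SpecialLinearGroup.coe_mul, e1, Matrix.mul_assoc,
      ← Matrix.SpecialLinearGroup.coe_mul, mul_inv_cancel, Matrix.SpecialLinearGroup.coe_one,
      Matrix.mul_one]
  -- the scalar part is trivial
  have hcen : ∀ {c : SL3 F}, c ∈ Subgroup.center (SL3 F) → ∀ {y : SL3 F},
      Commute (φ c) (φ y) := fun hc y => by
    show φ _ * φ y = φ y * φ _
    rw [← map_mul, ← map_mul, Subgroup.mem_center_iff.1 hc y]
  let θf : SL2 F → M := fun x => e x * (φ (iU (Bs x)))⁻¹
  have hθc : ∀ x, ∃ c ∈ Subgroup.center (SL3 F), θf x = φ c := fun x => by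
    obtain ⟨c, hc, he'⟩ := hsplit x
    refine ⟨c, hc, ?_⟩
    simp only [θf]
    rw [← hw x, he', map_mul, mul_inv_cancel_right]
  let θ : SL2 F →* M := MonoidHom.mk' θf fun x y => by
    obtain ⟨c, hc, hx⟩ := hθc x
    obtain ⟨c', hc', hy⟩ := hθc y
    have ex : e x = φ c * φ (iU (Bs x)) := by rw [← hx]; simp [θf]
    have ey : e y = φ c' * φ (iU (Bs y)) := by rw [← hy]; simp [θf]
    rw [hx, hy]
    simp only [θf]
    rw [map_mul, map_mul, map_mul, map_mul, ex, ey,
      show φ c * φ (iU (Bs x)) * (φ c' * φ (iU (Bs y))) * (φ (iU (Bs x)) * φ (iU (Bs y)))⁻¹ =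
        φ c * (φ (iU (Bs x)) * φ c') * (φ (iU (Bs x)))⁻¹ by group,
      ← (hcen hc').eq]
    group
  have hθ : θ = 1 := sl2_hom_trivial (p := p) θ fun x hx => by
    obtain ⟨c, hc, hx'⟩ := hθc x
    have hx'' : θ x = φ c := hx'
    have h3 : θ x ^ 3 = 1 := by
      rw [hx'', ← map_pow, pow_succ, pow_succ, pow_one, cube_center hc, map_one]
    rcases eq_or_ne p 3 with hp3 | hp3
    · -- no scalars of order three
      obtain ⟨r, hr, he'⟩ := Matrix.SpecialLinearGroup.mem_center_iff.1 hc
      simp only [Fintype.card_fin] at hr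
      have hr1 : (r - 1) ^ p = 0 := by rw [sub_pow_char, one_pow, hp3, hr, sub_self]
      have hr' : r = 1 := sub_eq_zero.1 ((pow_eq_zero_iff (Fact.out : p.Prime).ne_zero).1 hr1)
      have : c = 1 := Subtype.ext (by
        rw [← he', hr', map_one, Matrix.SpecialLinearGroup.coe_one])
      rw [hx'', this, map_one]
    · have hco : Nat.Coprime p 3 :=
        (Nat.coprime_primes (Fact.out : p.Prime) Nat.prime_three).2 hp3
      have := pow_gcd_eq_one.2 (⟨hx, h3⟩ : θ x ^ p = 1 ∧ θ x ^ 3 = 1)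
      rwa [hco.gcd_eq_one, pow_one] at this
  have hex : ∀ x, e x = φ (iU (Bs x)) := fun x => mul_inv_eq_one.1 (DFunLike.congr_fun hθ x)
  have hBinj : Function.Injective Bs := fun x y h => he (by rw [hex, hex, h])
  have hBsurj : Function.Surjective Bs := Finite.surjective_of_injective hBinj
  constructor
  · ext m
    constructor
    · rintro ⟨a, rfl⟩
      obtain ⟨x, rfl⟩ := hBsurj a
      exact ⟨x, hex x⟩
    · rintro ⟨x, rfl⟩
      exact ⟨Bs x, (hex x).symm⟩
  · intro a b h
    obtain ⟨x, rfl⟩ := hBsurj a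
    obtain ⟨y, rfl⟩ := hBsurj b
    have h' : φ (iU (Bs x)) = φ (iU (Bs y)) := h
    rw [he (by rw [hex, hex, h'] : e x = e y)]

/-- Two commuting involutions of `SL(3)` are simultaneously diagonal. -/
theorem exists_frame (h2 : (2 : F) ≠ 0) {a b : SL3 F} (ha : a * a = 1) (hb : b * b = 1)
    (hab : a * b = b * a) (ha1 : a ≠ 1) (hb1 : b ≠ 1) (hne : a ≠ b) :
    ∃ P : GL (Fin 3) F, cj P (iU (m1 F)) = a ∧ cj P (iL (m1 F)) = b := by
  classical
  obtain ⟨bs, χ, hχ, hbs⟩ := Inv2.exists_eigenBasis (α := Bool)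
    (fun c => cond c a.1 b.1) h2
    (fun c => by cases c <;> simp [← Matrix.SpecialLinearGroup.coe_mul, ha, hb])
    (fun c c' => by cases c <;> cases c' <;> simp [← Matrix.SpecialLinearGroup.coe_mul, hab])
  have hne1 : (-1 : F) ≠ 1 := fun h => h2 (by linear_combination -h)
  have pat : ∀ (g : SL3 F) (ν : Fin 3 → F), (∀ i, ν i = 1 ∨ ν i = -1) →
      (∀ i, g.1 *ᵥ bs i = ν i • bs i) → g ≠ 1 → ∃ k, ν k = 1 ∧ ∀ i, i ≠ k → ν i = -1 := by
    intro g ν hν hg hg1
    have hdet := Inv2.det_of_eigen bs hg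
    rw [g.2, Fin.prod_univ_three] at hdet
    have hall : ¬ ∀ i, ν i = 1 := fun hall => hg1 (Subtype.ext (Inv2.eq_of_eigen bs hg
      fun i => by rw [Matrix.SpecialLinearGroup.coe_one, Matrix.one_mulVec, hall i, one_smul]))
    rcases hν 0 with h0 | h0 <;> rcases hν 1 with h1 | h1 <;> rcases hν 2 with h3 | h3 <;>
      rw [h0, h1, h3] at hdet
    · exact absurd (fun i => by fin_cases i <;> assumption) hall
    · exact absurd (by linear_combination -hdet) hne1
    · exact absurd (by linear_combination -hdet) hne1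
    · exact ⟨0, h0, fun i hi => by fin_cases i <;> first | exact absurd rfl hi | assumption⟩
    · exact absurd (by linear_combination -hdet) hne1
    · exact ⟨1, h1, fun i hi => by fin_cases i <;> first | exact absurd rfl hi | assumption⟩
    · exact ⟨2, h3, fun i hi => by fin_cases i <;> first | exact absurd rfl hi | assumption⟩
    · exact absurd (by linear_combination -hdet) hne1
  obtain ⟨k, hk, hk'⟩ := pat a (fun i => χ i true) (fun i => hχ i true) (fun i => hbs i true) ha1
  obtain ⟨l, hl, hl'⟩ := pat b (fun i => χ i false) (fun i => hχ i false) (fun i => hbs i false) hb1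
  have hkl : k ≠ l := by
    rintro rfl
    refine hne (Subtype.ext (Inv2.eq_of_eigen bs (c := fun i => χ i true) (fun i => hbs i true) ?_))
    intro i
    have e : χ i true = χ i false := by
      by_cases hi : i = k
      · subst hi; exact hk.trans hl.symm
      · exact (hk' i hi).trans (hl' i hi).symm
    simp only [e]
    exact hbs i false
  obtain ⟨m, hmk, hml⟩ : ∃ m : Fin 3, m ≠ k ∧ m ≠ l :=
    (by decide : ∀ k l : Fin 3, ∃ m, m ≠ k ∧ m ≠ l) k l
  -- new order: `l, m, k`
  let σ : Fin 3 → Fin 3 := ![l, m, k]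
  have hσ : Function.Bijective σ := by
    refine Finite.injective_iff_bijective.1 ?_
    intro i j h
    fin_cases i <;> fin_cases j <;> simp [σ] at h ⊢ <;> first
      | exact hkl h | exact hkl h.symm | exact hmk h | exact hmk h.symm | exact hml h
      | exact hml h.symm
  let c := bs.reindex (Equiv.ofBijective σ hσ).symm
  let P0 : Matrix (Fin 3) (Fin 3) F := Matrix.of fun i j => c j i
  have hP : IsUnit P0.det := by
    rw [isUnit_iff_ne_zero]
    intro h0
    obtain ⟨v, hv, hMv⟩ := Matrix.exists_mulVec_eq_zero_iff.2 h0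
    apply hv
    have hlin : ∑ i, v i • c i = 0 := by
      funext j
      have := congrFun hMv j
      rw [Matrix.mulVec, dotProduct] at this
      simpa [P0, Finset.sum_apply, mul_comm] using this
    funext i
    exact Fintype.linearIndependent_iff.1 c.linearIndependent v hlin i
  let P : GL (Fin 3) F := Matrix.GeneralLinearGroup.mk'' P0 hP
  have hPc : (P : Matrix (Fin 3) (Fin 3) F) = P0 := rfl
  have key : ∀ (g : SL3 F) (x : SL3 F) (ν : Fin 3 → F), x.1 = Matrix.diagonal ν →
      (∀ i, g.1 *ᵥ c i = ν i • c i) → cj P x = g := by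
    intro g x ν hx hg
    apply Subtype.ext
    have e : g.1 * P0 = P0 * x.1 := by
      ext i j
      have := congrFun (hg j) i
      rw [hx, Matrix.mul_diagonal]
      simpa [Matrix.mul_apply, Matrix.mulVec, dotProduct, P0, mul_comm] using this
    rw [cj_coe, hPc, ← e, Matrix.mul_assoc, ← hPc, ← Units.val_mul, mul_inv_cancel,
      Units.val_one, Matrix.mul_one]
  have hc : ∀ i, c i = bs (σ i) := fun i => by simp [c, Module.Basis.reindex_apply]
  refine ⟨P, key a _ (fun i => χ (σ i) true) ?_ fun i => by rw [hc]; exact hbs (σ i) true,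
    key b _ (fun i => χ (σ i) false) ?_ fun i => by rw [hc]; exact hbs (σ i) false⟩
  · ext i j
    fin_cases i <;> fin_cases j <;>
      simp [σ, iU_coe, m1_coe, hk, hk' l (Ne.symm hkl), hk' m hmk]
  · ext i j
    fin_cases i <;> fin_cases j <;>
      simp [σ, iL_coe, m1_coe, hl, hl' k hkl, hl' m hml]

/-- Both blocks. -/
theorem exists_pair {p : ℕ} [Fact p.Prime] [CharP F p] [Finite F] (h2 : (2 : F) ≠ 0)
    (φ : SL3 F →* M) (hker : φ.ker ≤ Subgroup.center (SL3 F)) (e e' : SL2 F →* M)
    (he : Function.Injective e) (he' : Function.Injective e')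
    (hr : φ.range = e.range ⊔ e'.range) (hz : Commute (e (m1 F)) (e' (m1 F))) :
    ∃ ψ : SL3 F →* M, ψ.ker ≤ Subgroup.center (SL3 F) ∧ (ψ.comp iU).range = e.range ∧
      Function.Injective (ψ.comp iU) ∧ (ψ.comp iL).range = e'.range ∧
      Function.Injective (ψ.comp iL) ∧ ψ (iU (m1 F)) = e (m1 F) ∧ ψ (iL (m1 F)) = e' (m1 F) := by
  have hm := m1_ne_one (F := F) h2
  obtain ⟨a, ha, ha2⟩ := exists_lift hker (hr ▸ Subgroup.mem_sup_left ⟨m1 F, rfl⟩)
    (by rw [← map_mul, m1_mul_self, map_one] : e (m1 F) * e (m1 F) = 1)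
  obtain ⟨b, hb, hb2⟩ := exists_lift hker (hr ▸ Subgroup.mem_sup_right ⟨m1 F, rfl⟩)
    (by rw [← map_mul, m1_mul_self, map_one] : e' (m1 F) * e' (m1 F) = 1)
  have hab : a * b = b * a := comm_of_map hker hb2 (by rw [ha, hb]; exact hz)
  have ha1 : a ≠ 1 := fun h => hm (he (by rw [← ha, h, map_one, map_one]))
  have hb1 : b ≠ 1 := fun h => hm (he' (by rw [← hb, h, map_one, map_one]))
  have hne : a ≠ b := by
    intro h
    have hcen : a ∈ Subgroup.center (SL3 F) := by
      rw [Subgroup.mem_center_iff]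
      intro g
      refine comm_of_map hker ha2 ?_
      show φ g * φ a = φ a * φ g
      have hle : φ.range ≤ Subgroup.centralizer {φ a} := by
        rw [hr]
        have hm1c : ∀ x : SL2 F, x * m1 F = m1 F * x := fun x => by
          apply Subtype.ext
          rw [Matrix.SpecialLinearGroup.coe_mul, Matrix.SpecialLinearGroup.coe_mul]
          ext i j
          fin_cases i <;> fin_cases j <;> simp [m1_coe, Matrix.mul_apply, Fin.sum_univ_two]
        refine sup_le ?_ ?_
        · rintro _ ⟨x, rfl⟩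
          rw [Subgroup.mem_centralizer_singleton_iff, ha, ← map_mul, ← map_mul, hm1c]
        · rintro _ ⟨x, rfl⟩
          rw [Subgroup.mem_centralizer_singleton_iff, h, hb, ← map_mul, ← map_mul, hm1c]
      exact (Subgroup.mem_centralizer_singleton_iff.1 (hle ⟨g, rfl⟩))
    exact ha1 (eq_one_of_sq hcen ha2)
  obtain ⟨P, hPa, hPb⟩ := exists_frame h2 ha2 hb2 hab ha1 hb1 hne
  set ψ := φ.comp (cj P) with hψ
  have hsurj : Function.Surjective (cj P) := fun g => ⟨_, cj_cj P g⟩
  have hker' : ψ.ker ≤ Subgroup.center (SL3 F) := by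
    intro x hx
    have hc : cj P x ∈ Subgroup.center (SL3 F) := hker hx
    rw [Subgroup.mem_center_iff] at hc ⊢
    intro y
    have := congrArg (cj P⁻¹) (hc (cj P y))
    have hinv : ∀ g, cj P⁻¹ (cj P g) = g := fun g => by
      have := cj_cj P⁻¹ g
      rwa [inv_inv] at this
    simpa [map_mul, hinv] using this
  have hr' : ψ.range = φ.range := by rw [hψ, MonoidHom.range_comp, MonoidHom.range_eq_top.2 hsurj,
    ← MonoidHom.range_eq_map]
  have hU : ψ (iU (m1 F)) = e (m1 F) := by rw [hψ, MonoidHom.comp_apply, hPa, ha]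
  have hL : ψ (iL (m1 F)) = e' (m1 F) := by rw [hψ, MonoidHom.comp_apply, hPb, hb]
  obtain ⟨r1, i1⟩ := block (p := p) h2 hker' e he (by rw [hr', hr]; exact le_sup_left) hU
  have hker'' : (ψ.comp rev).ker ≤ Subgroup.center (SL3 F) := by
    intro x hx
    have hc : rev x ∈ Subgroup.center (SL3 F) := hker' hx
    rw [Subgroup.mem_center_iff] at hc ⊢
    intro y
    simpa [map_mul, rev_rev] using congrArg rev (hc (rev y))
  have hrs : Function.Surjective (rev (F := F)) := fun g => ⟨_, rev_rev g⟩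
  obtain ⟨r2, i2⟩ := block (p := p) h2 hker'' e' he' (by
      rw [MonoidHom.range_comp, MonoidHom.range_eq_top.2 hrs, ← MonoidHom.range_eq_map, hr', hr]
      exact le_sup_right)
    (by rw [MonoidHom.comp_apply, rev_iU, sw_m1, hL])
  have hsw : (ψ.comp rev).comp iU = (ψ.comp iL).comp sw := MonoidHom.ext fun x => by
    simp [rev_iU]
  rw [hsw] at r2 i2
  have hss : Function.Surjective (sw (F := F)) := fun g => ⟨_, sw_sw g⟩
  rw [MonoidHom.range_comp, MonoidHom.range_eq_top.2 hss, ← MonoidHom.range_eq_map] at r2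
  refine ⟨ψ, hker', r1, i1, r2, fun x y h => ?_, hU, hL⟩
  obtain ⟨x, rfl⟩ := hss x
  obtain ⟨y, rfl⟩ := hss y
  rw [i2 h]

/-- Transpose-inverse on `SL(3)`. -/
def ti3 : SL3 F →* SL3 F :=
  MonoidHom.mk' (fun g => ⟨(g⁻¹ : SL3 F).1.transpose, by rw [Matrix.det_transpose]; exact (g⁻¹).2⟩)
    fun g h => Subtype.ext (by
      show ((g * h)⁻¹ : SL3 F).1.transpose = _
      rw [_root_.mul_inv_rev, Matrix.SpecialLinearGroup.coe_mul, Matrix.transpose_mul]
      rfl)

theorem ti3_iU (g : SL2 F) : ti3 (iU g) = iU (ti g) := by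
  apply Subtype.ext
  show ((iU g)⁻¹ : SL3 F).1.transpose = _
  rw [← map_inv, iU_coe, iU_coe, ti_coe, Matrix.SpecialLinearGroup.coe_inv, Matrix.adjugate_fin_two]
  ext i j
  fin_cases i <;> fin_cases j <;> simp

theorem ti3_iL (g : SL2 F) : ti3 (iL g) = iL (ti g) := by
  apply Subtype.ext
  show ((iL g)⁻¹ : SL3 F).1.transpose = _
  rw [← map_inv, iL_coe, iL_coe, ti_coe, Matrix.SpecialLinearGroup.coe_inv, Matrix.adjugate_fin_two]
  ext i j
  fin_cases i <;> fin_cases j <;> simp

theorem map_iU (f : F →+* F) (g : SL2 F) :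
    Matrix.SpecialLinearGroup.map f (iU g) = iU (Matrix.SpecialLinearGroup.map f g) := by
  apply Subtype.ext
  ext i j
  fin_cases i <;> fin_cases j <;> simp [iU_coe]

theorem map_iL (f : F →+* F) (g : SL2 F) :
    Matrix.SpecialLinearGroup.map f (iL g) = iL (Matrix.SpecialLinearGroup.map f g) := by
  apply Subtype.ext
  ext i j
  fin_cases i <;> fin_cases j <;> simp [iL_coe]

/-- `diag(c, 1, 1)`. -/
def d3 (c : Fˣ) : GL (Fin 3) F :=
  ⟨Matrix.diagonal ![(c : F), 1, 1], Matrix.diagonal ![((c⁻¹ : Fˣ) : F), 1, 1],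
    by rw [Matrix.diagonal_mul_diagonal, ← Matrix.diagonal_one]; congr 1; funext i; fin_cases i <;> simp,
    by rw [Matrix.diagonal_mul_diagonal, ← Matrix.diagonal_one]; congr 1; funext i; fin_cases i <;> simp⟩

theorem d3_iU (c : Fˣ) (g : SL2 F) : cj (d3 c) (iU g) = iU (dg c g) := by
  apply Subtype.ext
  rw [cj_coe, iU_coe, iU_coe, dg_coe]
  show Matrix.diagonal _ * _ * Matrix.diagonal _ = _
  ext i j
  rw [Matrix.mul_diagonal, Matrix.diagonal_mul]
  fin_cases i <;> fin_cases j <;> simp <;> field_simp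

theorem d3_iL (c : Fˣ) (g : SL2 F) : cj (d3 c) (iL g) = iL g := by
  apply Subtype.ext
  rw [cj_coe, iL_coe]
  show Matrix.diagonal _ * _ * Matrix.diagonal _ = _
  ext i j
  rw [Matrix.mul_diagonal, Matrix.diagonal_mul]
  fin_cases i <;> fin_cases j <;> simp

/-- A hom on the pair restricting to a given frame on the first block. -/
theorem exists_aligned {p : ℕ} [Fact p.Prime] [CharP F p] [Finite F] (h2 : (2 : F) ≠ 0)
    (φ : SL3 F →* M) (hker : φ.ker ≤ Subgroup.center (SL3 F)) (e e' : SL2 F →* M)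
    (he : Function.Injective e) (he' : Function.Injective e')
    (hr : φ.range = e.range ⊔ e'.range) (hz : Commute (e (m1 F)) (e' (m1 F)))
    (hact : ∀ A, e' (m1 F) * e A * e' (m1 F) = e (dg (-1) A)) :
    ∃ ψ : SL3 F →* M, (∀ A, ψ (iU A) = e A) ∧ Function.Injective (ψ.comp iL) ∧
      (ψ.comp iL).range = e'.range := by
  classical
  obtain ⟨ψ, -, rU, iU', rL, iL', hU, hL⟩ := exists_pair (p := p) h2 φ hker e e' he he' hr hz
  have hpre : ∀ x, ∃ a, ψ (iU a) = e x := fun x => by
    have : e x ∈ (ψ.comp iU).range := rU ▸ ⟨x, rfl⟩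
    exact this
  choose γ0 hγ0 using hpre
  let γ : SL2 F →* SL2 F := MonoidHom.mk' γ0 fun x y => iU' (by
    show ψ (iU _) = ψ (iU _)
    rw [map_mul iU, map_mul ψ, hγ0, hγ0, hγ0, map_mul])
  have hγ : ∀ x, ψ (iU (γ x)) = e x := hγ0
  have hγi : Function.Injective γ := fun x y h => he (by rw [← hγ, ← hγ, h])
  have hγc : ∀ x, γ (dg (-1) x) = dg (-1) (γ x) := fun x => iU' (by
    show ψ (iU (γ _)) = ψ (iU _)
    rw [hγ, ← hact, ← iL_conj_iU, map_mul, map_mul, hL, hγ])
  obtain ⟨c, f, hf⟩ := classify (p := p) h2 γ hγi hγc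
  have hmsurj : Function.Surjective (Matrix.SpecialLinearGroup.map (n := Fin 2) f) := by
    refine Finite.surjective_of_injective fun a b h => Subtype.ext ?_
    ext i j
    exact f.injective (congrArg (fun g : SL2 F => g.1 i j) h)
  have finish : ∀ (β : SL3 F →* SL3 F) (γ' : SL2 F →* SL2 F), Function.Surjective γ' →
      Function.Injective γ' → (∀ x, β (iU x) = iU (γ x)) → (∀ x, β (iL x) = iL (γ' x)) →
      ∃ ψ : SL3 F →* M, (∀ A, ψ (iU A) = e A) ∧ Function.Injective (ψ.comp iL) ∧
        (ψ.comp iL).range = e'.range := by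
    intro β γ' hs hi h1 h2'
    have hcomp : (ψ.comp β).comp iL = (ψ.comp iL).comp γ' := MonoidHom.ext fun x => by
      simp [h2']
    refine ⟨ψ.comp β, fun A => by simp [h1, hγ], ?_, ?_⟩
    · rw [hcomp]; exact iL'.comp hi
    · rw [hcomp, MonoidHom.range_comp, MonoidHom.range_eq_top.2 hs, ← MonoidHom.range_eq_map, rL]
  have hminj : Function.Injective (Matrix.SpecialLinearGroup.map (n := Fin 2) f) :=
    Finite.injective_iff_surjective.2 hmsurj
  have htt : ∀ x : SL2 F, ti (ti x) = x := fun x => by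
    apply Subtype.ext; ext i j; fin_cases i <;> fin_cases j <;> simp [ti_coe]
  rcases hf with hf | hf
  · exact finish ((cj (d3 c)).comp (Matrix.SpecialLinearGroup.map f)) _ hmsurj hminj
      (fun x => by simp [hf, map_iU, d3_iU]) (fun x => by simp [map_iL, d3_iL])
  · exact finish (((cj (d3 c)).comp (Matrix.SpecialLinearGroup.map f)).comp ti3)
      ((Matrix.SpecialLinearGroup.map f).comp ti) (hmsurj.comp fun y => ⟨_, htt y⟩)
      (hminj.comp fun x y h => by rw [← htt x, h, htt])
      (fun x => by simp [hf, map_iU, d3_iU, ti3_iU]) (fun x => by simp [map_iL, d3_iL, ti3_iL])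

end CfsgLib.En
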