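/-
The six root groups of `SL(3)` and their commutators.
-/
import Cfsg.Agent.En.SLThree

set_option autoImplicit false

namespace CfsgLib.En

open Matrix
open CfsgLib.QP (up low up_coe low_coe up_mul low_mul up_inv low_inv up_zero low_zero)

/-- The commutator table of the six root groups of `SL(3)`. -/
def tbl (k l : ℕ) : Option (ℕ × ℤ) :=
  [[none, some (2, -1), none, none, none, some (4, 1)],
   [some (2, 1), none, none, none, none, some (3, -1)],
   [none, none, none, some (1, 1), some (0, -1), none],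
   [none, none, some (1, -1), none, some (5, 1), none],
   [none, none, some (0, 1), some (5, -1), none, none],
   [some (4, -1), some (3, 1), none, none, none, none]].getD k [] |>.getD l none

/-- The middle block. -/
def bmM {F : Type*} [Field F] (A : Matrix (Fin 2) (Fin 2) F) : Matrix (Fin 3) (Fin 3) F :=
  !![A 0 0, 0, A 0 1; 0, 1, 0; A 1 0, 0, A 1 1]

theorem bmM_mul {F : Type*} [Field F] (A B : Matrix (Fin 2) (Fin 2) F) :
    bmM (A * B) = bmM A * bmM B := by
  ext i j
  fin_cases i <;> fin_cases j <;>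
    simp [bmM, Matrix.mul_apply, Fin.sum_univ_two, Fin.sum_univ_three]

theorem bmM_det {F : Type*} [Field F] (A : Matrix (Fin 2) (Fin 2) F) : (bmM A).det = A.det := by
  simp [bmM, Matrix.det_fin_three, Matrix.det_fin_two]

/-- `SL(2)` on the outer coordinates. -/
def iM {F : Type*} [Field F] : SL2 F →* SL3 F :=
  MonoidHom.mk' (fun g => ⟨bmM g.1, (bmM_det g.1).trans g.2⟩)
    fun g h => Subtype.ext (bmM_mul g.1 h.1)

theorem iM_coe {F : Type*} [Field F] (g : SL2 F) :
    (iM g).1 = !![g.1 0 0, 0, g.1 0 1; 0, 1, 0; g.1 1 0, 0, g.1 1 1] := rfl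

variable {F : Type*} [Field F]

/-- The six root groups of `SL(3)`. -/
def y (k : ℕ) (t : F) : SL3 F :=
  match k with
  | 0 => iU (up t)
  | 1 => iL (up t)
  | 2 => iM (up t)
  | 3 => iU (low t)
  | 4 => iL (low t)
  | 5 => iM (low t)
  | _ => 1

set_option maxHeartbeats 8000000 in
theorem y_comm {k l : ℕ} (hk : k < 6) (hl : l < 6) (h1 : l ≠ k) (h2 : l % 3 ≠ k % 3) (t u : F) :
    (y l u)⁻¹ * (y k t)⁻¹ * y l u * y k t =
      match tbl k l with
      | none => 1
      | some (m, σ) => y m ((σ : F) * (t * u)) := by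
  interval_cases k <;> interval_cases l <;> simp at h1 h2 <;>
    simp only [tbl, List.getD_cons_zero, List.getD_cons_succ, y] <;>
    apply Subtype.ext <;>
    simp only [← map_inv, up_inv, low_inv, Matrix.SpecialLinearGroup.coe_mul,
      Matrix.SpecialLinearGroup.coe_one] <;>
    ext i j <;>
    fin_cases i <;> fin_cases j <;>
    simp [iU_coe, iL_coe, iM_coe, up_coe, low_coe, Matrix.mul_apply, Fin.sum_univ_three] <;>
    ring

theorem sl2_nn {a b : F} (ha : a ≠ 0) (hb : b ≠ 0) :
    ((up a * low (-a⁻¹) * up a * (up b * low (-b⁻¹) * up b) : SL2 F) : Matrix (Fin 2) (Fin 2) F) =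
      !![-(a / b), 0; 0, -(b / a)] := by
  ext i j
  fin_cases i <;> fin_cases j <;>
    simp [up_coe, low_coe, Matrix.mul_apply, Fin.sum_univ_two] <;> field_simp <;> ring

theorem sw_up (t : F) : sw (up t) = low t := by
  apply Subtype.ext; ext i j
  fin_cases i <;> fin_cases j <;> simp [sw, MonoidHom.comp_apply, dg_coe, ti_coe, up_coe, low_coe]

theorem sw_low (t : F) : sw (low t) = up t := by
  apply Subtype.ext; ext i j
  fin_cases i <;> fin_cases j <;> simp [sw, MonoidHom.comp_apply, dg_coe, ti_coe, up_coe, low_coe]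

end CfsgLib.En
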